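import Groth.Agent.Proet.WEtaleScheme
import Groth.Agent.Etalg.SepElt
import Mathlib.RingTheory.Etale.Field
import Mathlib.FieldTheory.IsAlgClosed.AlgebraicClosure
import Mathlib.AlgebraicGeometry.Morphisms.Integral

/-!
# Separable algebraic field extensions are weakly étale
-/

set_option autoImplicit false
universe u
open CategoryTheory CategoryTheory.Limits AlgebraicGeometry Opposite

namespace Groth.Agent.Sga2lef.H134.SepWE

open Groth.Agent.Etalg.SepElt

theorem weaklyEtale_of_isSeparable (k K : Type u) [Field k] [Field K] [Algebra k K]
    [Algebra.IsSeparable k K] : Algebra.WeaklyEtale k K := by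
  rw [Groth.Agent.Etalg.SepElt.weaklyEtale_iff]
  refine ⟨inferInstance, ?_⟩
  rw [eq_top_iff]
  intro b _
  let L : IntermediateField k K := IntermediateField.adjoin k {b}
  have hfin : FiniteDimensional k L :=
    IntermediateField.adjoin.finiteDimensional (Algebra.IsSeparable.isSeparable k b).isIntegral
  have hsep : Algebra.IsSeparable k L := inferInstance
  have hfe : Algebra.FormallyEtale k L := Algebra.FormallyEtale.of_isSeparable k L
  have hfp : Algebra.FinitePresentation k L :=
    (Algebra.FinitePresentation.of_finiteType (R := k) (A := L)).1 inferInstance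
  have het : Algebra.Etale k L := { }
  have het' : Algebra.Etale k L.toSubalgebra := het
  exact le_sepElt_of_etale L.toSubalgebra (IntermediateField.mem_adjoin_simple_self k b)

variable (k : Type u) [Field k]

/-- `Spec k̄ → Spec k`. -/
noncomputable abbrev sp : Spec (CommRingCat.of (AlgebraicClosure k)) ⟶ Spec (CommRingCat.of k) :=
  Spec.map (CommRingCat.ofHom (algebraMap k (AlgebraicClosure k)))

instance integral_sp : IsIntegralHom (sp k) := by
  rw [IsIntegralHom.SpecMap_iff]
  exact algebraMap_isIntegral_iff.mpr inferInstance

theorem weaklyEtale_sp [PerfectField k] : WeaklyEtale (sp k) := by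
  rw [sp, Groth.Agent.Proet.WEtaleScheme.weaklyEtale_Spec_iff]
  exact weaklyEtale_of_isSeparable k (AlgebraicClosure k)

end Groth.Agent.Sga2lef.H134.SepWE
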