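import Groth.Agent.Sga4h.BidFinal48
import Groth.Agent.Sga4h.BidGeoCmp
import Groth.Agent.S3138

/-!
# Biduality and finiteness of the dual on the iterated projective lines
-/

set_option autoImplicit false
universe u

open CategoryTheory CategoryTheory.Limits CategoryTheory.Abelian AlgebraicGeometry

attribute [local instance 5000] CategoryTheory.Abelian.toPreadditive
  CategoryTheory.Preadditive.preadditiveHasZeroMorphisms

namespace Groth.Agent.Sga2lef.H134.BidP

attribute [local instance] HasDerivedCategory.standard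
open scoped Groth.Agent.Sga4h.ModInst
open Groth.Agent.Sga4h Groth.Agent.Sga4h.BidRed538Main Groth.Agent.Sga4h.BidGeoIt Groth.Agent.Sga4h.BidIndLoc48

/-- The input of `bid_It` on the duality on the proper schemes, for the coefficient ring `Λ ≅ ℤ/m`. -/
structure In (Λ : Type (u + 1)) [CommRing Λ] (m : ℕ) : Prop where
  /-- the global data -/
  glob : ∀ (k : Type u) [Field k] [IsSepClosed k], (m : k) ≠ 0 → ∀ d : ℕ,
    BidIndFin48.GlobData (stdDual Λ (It (Spec (CommRingCat.of k)) (d + 1))) m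
  /-- the case of a point -/
  pt : ∀ (k : Type u) [Field k] [IsSepClosed k], (m : k) ≠ 0 → Bid (stdDual Λ (Spec (CommRingCat.of k)))

/-- Biduality and finiteness of the dual, generic coefficients. -/
theorem bid_gen {Λ : Type (u + 1)} [CommRing Λ] [Finite Λ] {m : ℕ} (hm : 0 < m) (hΛ : (m : Λ) = 0) (h : In Λ m)
    (k : Type u) [Field k] [IsSepClosed k] (hk : (m : k) ≠ 0) (d : ℕ) :
    Bid (stdDual Λ (It (Spec (CommRingCat.of k)) d)) :=
  BidLoc48.bid_It hm hΛ (stdDual Λ) h.glob (fun X X' g hX hg => BidCmp538.loc X X' g hX hg) h.pt d k hk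

theorem bid_gen_P {Λ : Type (u + 1)} [CommRing Λ] [Finite Λ] {m : ℕ} (hm : 0 < m) (hΛ : (m : Λ) = 0) (h : In Λ m)
    (k : Type u) [Field k] [IsSepClosed k] (hk : (m : k) ≠ 0) (d : ℕ) :
    Bid (stdDual Λ (Groth.Agent.Sga4B.IterP1.P (Spec (CommRingCat.of k)) d)) := by
  have h1 := bid_gen hm hΛ h k hk d
  rw [BidGeoCmp.it_eq_P] at h1
  exact h1

theorem in_zmod {m : ℕ} (hm : 0 < m) : In.{u} (ULift.{u + 1} (ZMod m)) m := by
  have : NeZero m := ⟨hm.ne'⟩
  have hΛ : (m : ULift.{u + 1} (ZMod m)) = 0 := by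
    apply ULift.down_injective
    exact ZMod.natCast_self m
  refine ⟨fun k _ _ hk d => ?_, fun k _ _ hk => ?_⟩
  · obtain ⟨N, tr, B⟩ := BidGlobHSD.hSD (m := m) k hk d
    exact BidFinal48.globData_of hm hΛ B (Groth.Agent.S3138.finCoh_It hm k hk d) _ (stdι _ _) (quasiIso_stdι _ _)
  · exact BidPtDbc.bid_point_zmod m hm _ (stdι _ _) (quasiIso_stdι _ _)

end Groth.Agent.Sga2lef.H134.BidP
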