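import Groth.Agent.Sga2lef.H134.Spread

/-!
# Bounds for the dimension of the support from bounds at closed points

`supp_bound`: `F` of étale depth `≥ n - dim cl(u)` at every point; `G` constructible, whose stalk at a closed
point `z` vanishes as soon as the depth of `F` at `z` is `> c`.  Then `dim cl(v) ≤ c - n` for all `v ∈ supp G`.
-/

set_option autoImplicit false
universe u
open CategoryTheory CategoryTheory.Limits AlgebraicGeometry Opposite TopologicalSpace

namespace Groth.Agent.Sga2lef.H134.SuppBound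

open EtCoh

/-- The support of a finite locally constant sheaf on an irreducible scheme is everything or empty. -/
theorem mem_supp_of_flc {X : Scheme.{u}} (η : X) (hη : ∀ x : X, η ⤳ x) (L : Ab X)
    (hL : EtCoh.IsFiniteLocallyConstant L) (h : η ∈ EtPBC.supp L) (x : X) : x ∈ EtPBC.supp L := by
  by_contra hx
  rw [Groth.Agent.EtpbcA.OverSite2.isFLC_iff_pull] at hL
  obtain ⟨ι, U, hU, hM⟩ := hL
  obtain ⟨a, t, ht⟩ := hU x
  obtain ⟨M, _, _, ⟨e⟩⟩ := hM a
  let g : (U a).left ⟶ X := Groth.Agent.EtpbcA.OverSite.str (U a)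
  have hge : Etale g := inferInstance
  have hg : g t = x := ht
  have hopen : IsOpen (Set.range g) := g.isOpenMap.isOpen_range
  obtain ⟨s, hs⟩ : η ∈ Set.range g := (hη x).mem_open hopen ⟨t, hg⟩
  have h1 : s ∈ EtPBC.supp (const (U a).left M) := by
    rw [← Groth.Agent.EtpbcA.Artin.supp_congr e, Groth.Agent.EtpbcA.Artin.supp_pull]
    change g s ∈ EtPBC.supp L
    rw [hs]
    exact h
  have h2 : t ∉ EtPBC.supp (const (U a).left M) := by
    rw [← Groth.Agent.EtpbcA.Artin.supp_congr e, Groth.Agent.EtpbcA.Artin.supp_pull]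
    intro ht'
    apply hx
    have : g t ∈ EtPBC.supp L := ht'
    rwa [hg] at this
  obtain ⟨Ω, _, _, ξ, hξ⟩ := Groth.Agent.EtpbcA.Artin.exists_point s
  obtain ⟨Ω', _, _, ξ', hξ'⟩ := Groth.Agent.EtpbcA.Artin.exists_point t
  rw [Groth.Agent.EtpbcA.Artin.mem_supp_iff _ s ξ hξ] at h1
  rw [Groth.Agent.EtpbcA.Artin.mem_supp_iff _ t ξ' hξ', not_not] at h2
  apply h1
  obtain ⟨e1⟩ := Groth.Agent.Sga4B.StalkLocal.nonempty_stalk_const M ξ
  obtain ⟨e2⟩ := Groth.Agent.Sga4B.StalkLocal.nonempty_stalk_const M ξ'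
  have h3 : Subsingleton M := by
    have := AddCommGrpCat.subsingleton_of_isZero h2
    exact e2.symm.injective.subsingleton
  have h4 := e1.injective.subsingleton
  exact AddCommGrpCat.isZero_of_subsingleton _

/-- A constructible sheaf with `v` in its support contains an open neighbourhood of `v` in `cl(v)` in its support. -/
theorem exists_nhd {X : Scheme.{u}} (G : Ab X) (hG : EtPBC.IsConstructible G) (v : X) (hv : v ∈ EtPBC.supp G) :
    ∃ W : X.Opens, v ∈ W ∧ ∀ x ∈ W, v ⤳ x → x ∈ EtPBC.supp G := by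
  obtain ⟨Z, i, hi, hZ, hη, hr⟩ := Groth.Agent.CycA.ClosurePt.exists_closure_subscheme v
  obtain ⟨O, hO, hflc⟩ := Groth.Agent.Sga4h.GenULAFlc.exists_flc_open ((pull i).obj G)
    (Groth.Agent.S0127.result i G hG) (genericPoint Z)
    (fun y hy => (hy.antisymm (genericPoint_specializes y)).eq)
  -- an open subset of `X` cutting out `O`
  obtain ⟨T, hT, hTO⟩ := i.isEmbedding.isInducing.isOpen_iff.1 O.2
  refine ⟨⟨T, hT⟩, ?_, fun x hx hvx => ?_⟩
  · have h1 : genericPoint Z ∈ i ⁻¹' T := by rw [hTO]; exact hO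
    have h2 : i (genericPoint Z) ∈ T := h1
    rwa [hη] at h2
  · obtain ⟨z, rfl⟩ : x ∈ Set.range i := by rw [hr]; exact specializes_iff_mem_closure.1 hvx
    have hz : z ∈ O := by
      have : z ∈ i ⁻¹' T := hx
      rwa [hTO] at this
    let ηO : O.toScheme := ⟨genericPoint Z, hO⟩
    have h1 : ηO ∈ EtPBC.supp ((pull O.ι).obj ((pull i).obj G)) := by
      rw [Groth.Agent.EtpbcA.Artin.supp_pull, Groth.Agent.EtpbcA.Artin.supp_pull]
      change i (genericPoint Z) ∈ EtPBC.supp G
      rw [hη]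
      exact hv
    have h2 := mem_supp_of_flc ηO (fun x => O.ι.isEmbedding.isInducing.specializes_iff.1
      (genericPoint_specializes _)) _ hflc h1 ⟨z, hz⟩
    rw [Groth.Agent.EtpbcA.Artin.supp_pull, Groth.Agent.EtpbcA.Artin.supp_pull] at h2
    exact h2

variable {k : Type u} [Field k]

theorem supp_bound [IsAlgClosed k] [CharZero k] (SP : FlcPurity.StmtSP k) (FIN : Spread.StmtFin k)
    {X : Scheme.{u}} (f : X ⟶ Spec (CommRingCat.of k)) [LocallyOfFiniteType f] [QuasiCompact f]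
    (F : Ab X) (hF : EtPBC.IsConstructible F) (m : ℕ) (hm : 0 < m) (hFm : KilledBy m F) (n : ℕ)
    (hdepth : ∀ (v : X) (d : ℕ), topologicalKrullDim (closure ({v} : Set X)) = (d : WithBot ℕ∞) →
      EtDepth.DepthAtGE X F v (n - d))
    (G : Ab X) (hG : EtPBC.IsConstructible G) (c : ℤ)
    (hCP : ∀ z : X, IsClosed ({z} : Set X) → ∀ q : ℕ, EtDepth.DepthAtGE X F z q → c < q →
      z ∉ EtPBC.supp G)
    (v : X) (hv : v ∈ EtPBC.supp G) (d : ℕ)
    (hd : topologicalKrullDim (closure ({v} : Set X)) = (d : WithBot ℕ∞)) : (d : ℤ) ≤ c - n := by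
  by_contra hcon
  obtain ⟨W, hW, hWs⟩ := exists_nhd G hG v hv
  obtain ⟨z, hzW, hvz, hzc, hz⟩ := Spread.spread SP FIN f F hF m hm hFm v d (n - d) hd (hdepth v d hd) W hW
  exact hCP z hzc _ hz (by omega) (hWs z hzW hvz)

end Groth.Agent.Sga2lef.H134.SuppBound
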