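import Groth.Agent.Sga2lef.H134.DualOpen
import Groth.Agent.Sga2lef.H134.SuppBound
import Groth.Agent.Sga2lef.H253.StkSupp
import Groth.Agent.Etcore.LFinite

/-!
# The bound on the supports of the cohomology sheaves of the dual

`CPAt Λ A N`: duality at the closed points of `A`, smooth of dimension `N`, as a proposition.
-/

set_option autoImplicit false
universe u
open CategoryTheory CategoryTheory.Limits CategoryTheory.Abelian AlgebraicGeometry Opposite

namespace Groth.Agent.Sga2lef.H134.Supp

open Groth.Agent.Etrest.ModAb Groth.Agent.Sga4h.EtPts Groth.Agent.Sga4h.BidRed538Main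

attribute [local instance 5000] CategoryTheory.Abelian.toPreadditive
  CategoryTheory.Preadditive.preadditiveHasZeroMorphisms
attribute [local instance] HasDerivedCategory.standard
open scoped Groth.Agent.Sga4h.ModInst

/-- **Duality at the closed points of `A`** (as a proposition). -/
structure CPAt (Λ : Type (u + 1)) [CommRing Λ] (A : Scheme.{u}) (N : ℕ) : Prop where
  /-- vanishing of the stalk at the closed point `z` of `H^b(RHom(F, Λ))` for `b > 2N - q` if the depth of `F` at `z`
  is at least `q` -/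
  out : ∀ (F : EtModW.Mod Λ A) (_ : EtPBC.IsConstructible ((ab Λ A).obj F)) (z : A) (_ : IsClosed ({z} : Set A))
    (q : ℕ) (_ : EtDepth.DepthAtGE A ((ab Λ A).obj F) z q) (b : ℤ) (_ : 2 * (N : ℤ) < b + q),
    IsZero ((stk Λ z).obj
      (((stdDual Λ A).D ((CochainComplex.singleFunctor (EtModW.Mod Λ A) 0).obj F)).homology b))

theorem killedBy_ab {Λ : Type (u + 1)} [CommRing Λ] {X : Scheme.{u}} {n : ℕ} (hn : (n : Λ) = 0)
    (F : EtModW.Mod Λ X) : EtCoh.KilledBy n ((ab Λ X).obj F) := by
  intro U s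
  let s' : EtModW.sect Λ F U := s
  have h : n • s' = 0 := by
    rw [← Nat.cast_smul_eq_nsmul Λ, hn, zero_smul]
  exact h

variable {k : Type u} [Field k] [IsAlgClosed k] [CharZero k] {Λ : Type (u + 1)} [CommRing Λ] [Finite Λ]

/-- **The bound on the supports of the cohomology sheaves of the dual** on an open `A` of a scheme `P` on which the
dual preserves `D^b_c`. -/
theorem supp (SP : FlcPurity.StmtSP k) (FIN : Spread.StmtFin k) {A P : Scheme.{u}} [IsNoetherian P] (j : A ⟶ P)
    [IsOpenImmersion j] (f : A ⟶ Spec (CommRingCat.of k)) [LocallyOfFiniteType f] [QuasiCompact f]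
    {m : ℕ} (hm : 0 < m) (hΛ : (m : Λ) = 0) (N n : ℕ)
    (hB : Groth.Agent.Sga4h.BidIndLoc48.Bid (stdDual Λ P)) (hCP : CPAt Λ A N) (F : EtModW.Mod Λ A)
    (hFc : EtPBC.IsConstructible ((ab Λ A).obj F))
    (hdepth : ∀ (v : A) (d : ℕ), topologicalKrullDim (closure ({v} : Set A)) = (d : WithBot ℕ∞) →
      EtDepth.DepthAtGE A ((ab Λ A).obj F) v (n - d))
    (b : ℤ) (v : A) (hv : ¬ IsZero ((stk Λ v).obj
      (((stdDual Λ A).D ((CochainComplex.singleFunctor _ 0).obj F)).homology b))) (d : ℕ)
    (hd : topologicalKrullDim (closure ({v} : Set A)) = (d : WithBot ℕ∞)) : (d : ℤ) ≤ 2 * N - n - b := by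
  have hNA : IsNoetherian A := Groth.Agent.CurvesA.ClosedPtSep.isNoetherian f
  have hG := (Groth.Agent.Etcore.LFinite.isConstructible_iff_ab _).1
    (DualOpen.isConstructible_homology_D j hB F
      ((Groth.Agent.Etcore.LFinite.isConstructible_iff_ab F).2 hFc) b)
  have key := SuppBound.supp_bound SP FIN f ((ab Λ A).obj F) hFc m hm (killedBy_ab hΛ F) n hdepth
    ((ab Λ A).obj (((stdDual Λ A).D ((CochainComplex.singleFunctor _ 0).obj F)).homology b)) hG (2 * N - b)
    (fun z hz q hq hbq hzs =>
      (H253.StkSupp.mem_supp_ab_iff _ z).1 hzs (hCP.out F hFc z hz q hq b (by omega)))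
    v ((H253.StkSupp.mem_supp_ab_iff _ v).2 hv) d hd
  omega

end Groth.Agent.Sga2lef.H134.Supp
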