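import Groth.Agent.Sga2lef.H88.LocDualGeo
import Groth.Agent.Sga2lef.H134.Supp
import Groth.Agent.Sga4B.LMLS

/-!
# Duality at the closed points

`cpAt`: the form `Supp.CPAt` of the local duality at the closed points of a scheme of finite type over an algebraically
closed field.
-/

set_option autoImplicit false
universe u

open CategoryTheory CategoryTheory.Limits CategoryTheory.Abelian AlgebraicGeometry Opposite

attribute [local instance 5000] CategoryTheory.Abelian.toPreadditive
  CategoryTheory.Preadditive.preadditiveHasZeroMorphisms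

namespace Groth.Agent.Sga2lef.H134.CP

attribute [local instance] HasDerivedCategory.standard
open scoped Groth.Agent.Sga4h.ModInst
open Groth.Agent.Sga4h Groth.Agent.Sga4h.Refl DerivedCategory Groth.Agent.Sga4h.BidRed538Main
open Groth.Agent.Sga2lef.H88.LocDualMap Groth.Agent.Sga2lef.H88.LocDualEt

section Gen

variable {Λ : Type (u + 1)} [CommRing Λ] [Finite Λ] {X : Scheme.{u}}

/-- Duality at the closed points in terms of `EtCoh.stalk`. -/
structure StalkForm (Λ : Type (u + 1)) [CommRing Λ] (X : Scheme.{u}) (N : ℕ) : Prop where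
  /-- the vanishing -/
  out : ∀ (x : X) (_ : IsClosed ({x} : Set X)) (F : EtModW.Mod Λ X) (_ : EtModW.IsConstructible Λ F)
    (n : ℕ) (_ : EtDepth.DepthAtGE X ((Etrest.ModAb.ab Λ X).obj F) x n)
    (b : ℤ) (_ : N - b < n) (Ω : Type u) [Field Ω] [IsSepClosed Ω] (ξ : Spec (CommRingCat.of Ω) ⟶ X)
    (_ : ξ default = x),
    IsZero ((EtCoh.stalk ξ).obj ((Etrest.ModAb.ab Λ X).obj
      (((stdDual Λ X).D ((CochainComplex.singleFunctor (EtModW.Mod Λ X) 0).obj F)).homology b)))

theorem cpAt_of_stalkForm (N : ℕ) (h : StalkForm Λ X (2 * N)) : Supp.CPAt Λ X N := by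
  refine ⟨fun F hF z hz q hd b hb => ?_⟩
  by_contra h0
  obtain ⟨Ω, _, _, ξ, hξ⟩ := Groth.Agent.EtpbcA.Artin.exists_point z
  refine (Groth.Agent.EtpbcA.Artin.mem_supp_iff _ z ξ hξ).1
    ((H253.StkSupp.mem_supp_ab_iff _ z).2 h0) ?_
  exact h.out z hz F ((Groth.Agent.Etcore.LFinite.isConstructible_iff_ab F).2 hF) q hd b (by push_cast; lia) Ω ξ
    ((Groth.Agent.EtpbcA.Artin.range_eq_iff ξ z).1 hξ)

end Gen

-- kernel speed: find the instances on `ULift (ZMod m)` through `CommRing`
attribute [-instance] ULift.ring ULift.semiring ULift.commSemiring ULift.addCommGroup ULift.addCommMonoid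

variable {k : Type u} [Field k] [IsAlgClosed k] {X : Scheme.{u}} (a : X ⟶ Spec (CommRingCat.of k))
  [LocallyOfFiniteType a] {m : ℕ} (hm : 0 < m)

include a hm in
theorem stalkForm (N : ℕ) (hN : BddInj (unitCx (ULift.{u + 1} (ZMod m)) X) N)
    (hrefl : ∀ E : CochainComplex (EtModW.Mod (ULift.{u + 1} (ZMod m)) X) ℤ,
      EtModD.IsDbc (Q.obj E) → (stdDual (ULift.{u + 1} (ZMod m)) X).Refl E) :
    StalkForm (ULift.{u + 1} (ZMod m)) X N :=
  ⟨fun x hx F hF n hd b hb _ _ _ ξ hξ => isZero_stalk a hm x hx N hN hrefl F hF n hd b hb ξ hξ⟩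

end Groth.Agent.Sga2lef.H134.CP
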