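import Groth.Agent.Sga2lef.H134.DepthAt
import Groth.Agent.Sga2lef.H107.FibreLoc
import Groth.Agent.S0655

/-!
# Étale depth at a point of a direct image along a closed immersion

`depthAtGE_push`: for `c : V ⟶ A` a closed immersion, the depth of `c_* F` at `u` is at least `n` if the depth
of `F` is at least `n` at the point of `V` over `u` (if there is one).
-/

set_option autoImplicit false
universe u
open CategoryTheory CategoryTheory.Limits AlgebraicGeometry Opposite IsLocalRing

namespace Groth.Agent.Sga2lef.H134.DepthPush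

open Groth.Agent.Etrest.StrictLoc Groth.Agent.Sga1.UlaSL Groth.Agent.Etrest.StrictLocBC DepthAt

/-- The zero sheaf has infinite depth. -/
theorem depthGE_of_isZero {X U : Scheme.{u}} (j : U ⟶ X) [EtCoh.BCCont j] {F : EtCoh.Ab X}
    (hF : IsZero F) (n : ℕ) : EtDepth.DepthGE j F n := fun p _ => by
  have : (EtDual.locCoh j p).Additive := by
    unfold EtDual.locCoh
    infer_instance
  exact (EtDual.locCoh j p).map_isZero hF

/-- A closed subscheme of the spectrum of a local ring which contains the closed point. -/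
theorem exists_quot {R : Type u} [CommRing R] [IsLocalRing R] {V A : Scheme.{u}} (c : V ⟶ A)
    [IsClosedImmersion c] (σ : Spec (CommRingCat.of R) ⟶ A) (v : V) (hv : c v = σ (closedPoint R)) :
    ∃ (I : Ideal R) (_ : IsLocalRing (R ⧸ I)) (τ : Spec (CommRingCat.of (R ⧸ I)) ⟶ V),
      IsPullback τ (spm (Ideal.Quotient.mk I)) c σ ∧ τ (closedPoint (R ⧸ I)) = v := by
  have hcl : IsClosedImmersion (pullback.snd c σ) := inferInstance
  obtain ⟨I, e, he⟩ : ∃ (I : Ideal R) (e : pullback c σ ≅ Spec (CommRingCat.of (R ⧸ I))),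
      pullback.snd c σ = e.hom ≫ spm (Ideal.Quotient.mk I) :=
    (IsClosedImmersion.Spec_iff (f := pullback.snd c σ)).1 hcl
  have hpb : IsPullback (e.inv ≫ pullback.fst c σ) (spm (Ideal.Quotient.mk I)) c σ := by
    refine IsPullback.of_iso (IsPullback.of_hasPullback c σ) e (Iso.refl _) (Iso.refl _)
      (Iso.refl _) ?_ ?_ ?_ ?_
    · simp
    · simp only [Iso.refl_hom, Category.comp_id]
      rw [he]
    · simp
    · simp
  obtain ⟨z, hz1, hz2⟩ := Scheme.Pullback.exists_preimage_pullback (f := c) (g := σ) v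
    (closedPoint R : Spec (CommRingCat.of R)) hv
  have hnt : Nontrivial (R ⧸ I) := by
    rw [Ideal.Quotient.nontrivial_iff]
    intro h
    have : Subsingleton (R ⧸ I) := Ideal.Quotient.subsingleton_iff.2 h
    have hempty : IsEmpty (PrimeSpectrum (R ⧸ I)) := inferInstance
    exact hempty.false (e.hom z)
  have hloc : IsLocalRing (R ⧸ I) :=
    IsLocalRing.of_surjective' (Ideal.Quotient.mk _) Ideal.Quotient.mk_surjective
  refine ⟨I, hloc, e.inv ≫ pullback.fst c σ, hpb, ?_⟩
  apply c.isClosedEmbedding.injective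
  have hl : IsLocalHom (Ideal.Quotient.mk I) := IsLocalHom.of_surjective _ Ideal.Quotient.mk_surjective
  have h1 : ((e.inv ≫ pullback.fst c σ) ≫ c) (closedPoint (R ⧸ I)) =
      (spm (Ideal.Quotient.mk I) ≫ σ) (closedPoint (R ⧸ I)) := by rw [hpb.w]
  have h2 : (spm (Ideal.Quotient.mk I) ≫ σ) (closedPoint (R ⧸ I)) = σ (closedPoint R) :=
    congrArg σ (closedPoint_map (Ideal.Quotient.mk I))
  exact (h1.trans h2).trans hv.symm

/-- **Depth of a direct image along a closed immersion.** -/
theorem depthAtGE_push {V A : Scheme.{u}} (c : V ⟶ A) [IsClosedImmersion c] (F : EtCoh.Ab V) (a : A)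
    (n : ℕ) (h : ∀ v : V, c v = a → EtDepth.DepthAtGE V F v n) :
    EtDepth.DepthAtGE A ((EtCoh.push c).obj F) a n := by
  obtain ⟨C, _, _, σ, hσ, ha⟩ := exists_isStrictLoc A a
  rw [depthAtGE_iff_of_isStrictLoc hσ a ha]
  by_cases hv : ∃ v, c v = a
  · obtain ⟨v, hv⟩ := hv
    obtain ⟨I, hloc, τ, hpb, hτv⟩ := exists_quot c σ v (hv.trans ha.symm)
    have hl : IsLocalHom (Ideal.Quotient.mk I) :=
      IsLocalHom.of_surjective _ Ideal.Quotient.mk_surjective
    have hτ : IsStrictLoc τ := by
      have h5 := isStrictLoc_of_isPullback hσ hpb (Groth.Agent.Sga2lef.H107.FibreLoc.isLocAt_id (C ⧸ I))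
        (Ideal.Quotient.mk I) (RingHom.isIntegral_of_surjective _ Ideal.Quotient.mk_surjective)
        (Category.id_comp _).symm
      rwa [Category.id_comp] at h5
    have hc' : IsClosedImmersion (spm (Ideal.Quotient.mk I)) :=
      IsClosedImmersion.spec_of_surjective _ Ideal.Quotient.mk_surjective
    have h1 : EtDepth.DepthGE (FEt.puncturedSpec (C ⧸ I)).ι ((EtCoh.pull τ).obj F) n :=
      (depthAtGE_iff_of_isStrictLoc hτ v hτv n).1 (h v hv)
    have hiso := Groth.Agent.S0655.result c σ (spm (Ideal.Quotient.mk I)) τ hpb F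
    have hr := range_punct_eq (Ideal.Quotient.mk I)
      (spm (Ideal.Quotient.mk I)).isClosedEmbedding.injective
    obtain ⟨h', hsq⟩ := Groth.Agent.Sga4B.LocCohLocal.isPullback_of_range (FEt.puncturedSpec C).ι
      (spm (Ideal.Quotient.mk I)) (FEt.puncturedSpec (C ⧸ I)).ι hr
    refine Groth.Agent.Sga2lef.H107.DepthSES.DepthGE.of_iso
      (asIso (EtCoh.baseChange0 c σ (spm (Ideal.Quotient.mk I)) τ hpb.w F)).symm ?_
    intro p hp
    refine IsZero.of_iso ?_ (Groth.Agent.Sga4B.PureComp.locCohPushIso hsq p _)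
    exact (EtCoh.push _).map_isZero (h1 p hp)
  · have hpb : IsPullback (pullback.fst c σ) (pullback.snd c σ) c σ := IsPullback.of_hasPullback c σ
    have hiso := Groth.Agent.S0655.result c σ (pullback.snd c σ) (pullback.fst c σ) hpb F
    have hemp : IsEmpty ↥(pullback c σ) := by
      refine ⟨fun w => hv ?_⟩
      have h1 : c (pullback.fst c σ w) = σ (pullback.snd c σ w) := by
        rw [← Scheme.Hom.comp_apply, ← Scheme.Hom.comp_apply, pullback.condition]
      have h2 : pullback.snd c σ w ⤳ closedPoint C := IsLocalRing.specializes_closedPoint _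
      have h3 : σ (pullback.snd c σ w) ⤳ σ (closedPoint C) := h2.map σ.continuous
      rw [← h1, ha] at h3
      have h4 : a ∈ Set.range c := h3.mem_closed c.isClosedEmbedding.isClosed_range ⟨_, rfl⟩
      exact h4
    refine Groth.Agent.Sga2lef.H107.DepthSES.DepthGE.of_iso
      (asIso (EtCoh.baseChange0 c σ (pullback.snd c σ) (pullback.fst c σ) hpb.w F)).symm ?_
    refine depthGE_of_isZero _ ?_ n
    exact (EtCoh.push _).map_isZero (Groth.Agent.Sga4B.ClosedSupp.isZero_of_isEmpty _)

end Groth.Agent.Sga2lef.H134.DepthPush
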