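import Groth.Agent.Sga2lef.H134.DepthAt
import Groth.Agent.Sga2lef.H87.PullLocCoh
import Groth.Agent.Sga2lef.H87.DepthLocal
import Groth.Agent.EtpbcA.SuppClosed
import Groth.Agent.EtpbcA.OverSite2
import Groth.Agent.S0538
import Groth.Agent.Sga4B.StalkLocal
import Groth.Agent.EtpbcA.ArtinSupp

/-!
# Étale depth at the generic point of a closed subset

* `not_mem_supp_locCoh`: `Z = cl(v)`, étale depth of `F` at `v` `≥ a`: the stalk of `H^q_Z(F)` at `v` vanishes for
  `q < a`;
* `isZero_of_flc`: a finite locally constant sheaf on an irreducible scheme vanishes if its generic stalk does.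
-/

set_option autoImplicit false
universe u
open CategoryTheory CategoryTheory.Limits AlgebraicGeometry Opposite TopologicalSpace IsLocalRing

namespace Groth.Agent.Sga2lef.H134.GenDepth

open EtCoh Groth.Agent.Etrest.StrictLoc

theorem eq_closedPoint {X : Scheme.{u}} {y : X} (R : Type u) [CommRing R] [IsLocalRing R]
    [Algebra (X.presheaf.stalk y) R] [IsLocalHom (algebraMap (X.presheaf.stalk y) R)]
    [Hensel.IsStrictHenselization (X.presheaf.stalk y) R] (P : Spec (CommRingCat.of R))
    (hP : Hens2.specOf X y R P = y) : P = closedPoint R := by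
  have h1 : (Spec.map (CommRingCat.ofHom (algebraMap (X.presheaf.stalk y) R))) P =
      IsLocalRing.closedPoint (X.presheaf.stalk y) := by
    apply (X.fromSpecStalk y).isEmbedding.injective
    rw [Scheme.fromSpecStalk_closedPoint]
    rw [Hens2.specOf, Scheme.Hom.comp_apply] at hP
    exact hP
  have h2 := congrArg PrimeSpectrum.asIdeal h1
  change Ideal.comap (algebraMap (X.presheaf.stalk y) R) P.asIdeal =
    IsLocalRing.maximalIdeal (X.presheaf.stalk y) at h2
  refine PrimeSpectrum.ext ((IsLocalRing.le_maximalIdeal P.isPrime.ne_top).antisymm ?_)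
  change IsLocalRing.maximalIdeal R ≤ _
  rw [← Groth.Agent.S0538.result (X.presheaf.stalk y) R, Ideal.map_le_iff_le_comap]
  exact h2.ge

/-- The pull-back of `H^q_Z(F)` to the strict localization at the generic point of `Z` vanishes below the depth. -/
theorem isZero_pull_locCoh {X U : Scheme.{u}} (j : U ⟶ X) [IsOpenImmersion j] [QuasiCompact j] (F : Ab X)
    (v : X) (hv : ∀ x : X, x ∉ Set.range j ↔ v ⤳ x) (a : ℕ) (h : EtDepth.DepthAtGE X F v a) (q : ℕ)
    (hq : q < a) (R : Type u) [CommRing R] [IsLocalRing R] [Algebra (X.presheaf.stalk v) R]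
    [IsLocalHom (algebraMap (X.presheaf.stalk v) R)] [Hensel.IsStrictHenselization (X.presheaf.stalk v) R] :
    IsZero ((EtCoh.pull (Hens2.specOf X v R)).obj ((EtDual.locCoh j q).obj F)) := by
  have hwe : WeaklyEtale (Hens2.specOf X v R) := Groth.Agent.S0754.result X v R
  have hc : Hens2.specOf X v R (closedPoint R) = v :=
    Groth.Agent.Etrest.VCBaseChange.specOf_closedPoint X v R
  have hr : Set.range (FEt.puncturedSpec R).ι = (Hens2.specOf X v R) ⁻¹' Set.range j := by
    ext y
    rw [Set.mem_preimage, DepthAt.mem_range_punct, not_iff_comm, hv]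
    constructor
    · intro hy
      have h1 : y ⤳ closedPoint R := IsLocalRing.specializes_closedPoint _
      have h2 : Hens2.specOf X v R y ⤳ Hens2.specOf X v R (closedPoint R) :=
        h1.map (Hens2.specOf X v R).continuous
      rw [hc] at h2
      exact eq_closedPoint R y (h2.antisymm hy).eq
    · intro hy
      rw [hy, hc]
  obtain ⟨h', hsq⟩ := Groth.Agent.Sga4B.LocCohLocal.isPullback_of_range j (Hens2.specOf X v R)
    (FEt.puncturedSpec R).ι hr
  obtain ⟨e⟩ := Groth.Agent.Sga2lef.H87.PullLocCoh.nonempty_pull_locCoh_iso hsq F q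
  exact (h R q hq).of_iso e

theorem not_mem_supp_locCoh {X U : Scheme.{u}} (j : U ⟶ X) [IsOpenImmersion j] [QuasiCompact j] (F : Ab X)
    (v : X) (hv : ∀ x : X, x ∉ Set.range j ↔ v ⤳ x) (a : ℕ) (h : EtDepth.DepthAtGE X F v a) (q : ℕ)
    (hq : q < a) : v ∉ EtPBC.supp ((EtDual.locCoh j q).obj F) := by
  obtain ⟨R, _, _, _, _, _⟩ := Groth.Agent.S0537.result (X.presheaf.stalk v)
  intro hmem
  have h1 := isZero_pull_locCoh j F v hv a h q hq R
  rw [Groth.Agent.EtpbcA.Artin.isZero_iff, Groth.Agent.EtpbcA.Artin.supp_pull] at h1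
  have h3 : Hens2.specOf X v R (closedPoint R) ∈ EtPBC.supp ((EtDual.locCoh j q).obj F) := by
    have hc : Hens2.specOf X v R (closedPoint R) = v :=
      Groth.Agent.Etrest.VCBaseChange.specOf_closedPoint X v R
    rw [hc]
    exact hmem
  exact (Set.eq_empty_iff_forall_notMem.1 h1) (closedPoint R) h3

/-- Finite locally constant sheaves on irreducible schemes. -/
theorem isZero_of_flc {X : Scheme.{u}} (η : X) (hη : ∀ x : X, η ⤳ x) (L : Ab X)
    (hL : EtCoh.IsFiniteLocallyConstant L) (h : η ∉ EtPBC.supp L) : IsZero L := by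
  refine Groth.Agent.EtpbcA.Artin.isZero_of_forall L fun x hx => ?_
  rw [Groth.Agent.EtpbcA.OverSite2.isFLC_iff_pull] at hL
  obtain ⟨ι, U, hU, hM⟩ := hL
  obtain ⟨a, t, ht⟩ := hU x
  obtain ⟨M, _, _, ⟨e⟩⟩ := hM a
  let g : (U a).left ⟶ X := Groth.Agent.EtpbcA.OverSite.str (U a)
  have hge : Etale g := inferInstance
  have hg : g t = x := ht
  -- `η` is in the image of `g`
  have hopen : IsOpen (Set.range g) := g.isOpenMap.isOpen_range
  obtain ⟨s, hs⟩ : η ∈ Set.range g := (hη x).mem_open hopen ⟨t, hg⟩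
  have h1 : s ∉ EtPBC.supp (const (U a).left M) := by
    rw [← Groth.Agent.EtpbcA.Artin.supp_congr e, Groth.Agent.EtpbcA.Artin.supp_pull]
    intro hs'
    apply h
    have : g s ∈ EtPBC.supp L := hs'
    rwa [hs] at this
  have h2 : t ∈ EtPBC.supp (const (U a).left M) := by
    rw [← Groth.Agent.EtpbcA.Artin.supp_congr e, Groth.Agent.EtpbcA.Artin.supp_pull]
    change g t ∈ EtPBC.supp L
    rw [hg]
    exact hx
  obtain ⟨Ω, _, _, ξ, hξ⟩ := Groth.Agent.EtpbcA.Artin.exists_point s
  obtain ⟨Ω', _, _, ξ', hξ'⟩ := Groth.Agent.EtpbcA.Artin.exists_point t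
  rw [Groth.Agent.EtpbcA.Artin.mem_supp_iff _ s ξ hξ, not_not] at h1
  rw [Groth.Agent.EtpbcA.Artin.mem_supp_iff _ t ξ' hξ'] at h2
  apply h2
  obtain ⟨e1⟩ := Groth.Agent.Sga4B.StalkLocal.nonempty_stalk_const M ξ
  obtain ⟨e2⟩ := Groth.Agent.Sga4B.StalkLocal.nonempty_stalk_const M ξ'
  have h3 : Subsingleton M := by
    have := AddCommGrpCat.subsingleton_of_isZero h1
    exact e1.symm.injective.subsingleton
  have h4 := e2.injective.subsingleton
  exact AddCommGrpCat.isZero_of_subsingleton _

end Groth.Agent.Sga2lef.H134.GenDepth
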