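import Groth.Agent.Sga2lef.H134.FlcPurity
import Groth.Agent.Sga2lef.H134.GenDepth
import Groth.Agent.Sga2lef.H134.DepthComp
import Groth.Agent.Sga2lef.H134.DepthPush
import Groth.Agent.Sga2lef.H134.DimCl
import Groth.Agent.Sga4h.GenULAFlc
import Groth.Agent.CycA.ClosurePt
import Groth.Agent.Fga.DimCut
import Groth.Agent.EtpbcA.ConsExact
import Groth.Agent.EtpbcA.StrataGlob
import Groth.Agent.S0127
import Groth.Agent.VarietyA.SmoothLocusSch

/-!
# Spreading out the étale depth from a point to the closed points of its closure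
-/

set_option autoImplicit false
universe u
open CategoryTheory CategoryTheory.Limits AlgebraicGeometry Opposite TopologicalSpace

namespace Groth.Agent.Sga2lef.H134.Spread

open EtCoh

/-- Finiteness for open immersions over a field. -/
def StmtFin (k : Type u) [Field k] : Prop :=
  ∀ {X U : Scheme.{u}} (f : X ⟶ Spec (CommRingCat.of k)) [LocallyOfFiniteType f] [QuasiCompact f]
    (j : U ⟶ X) [IsOpenImmersion j] (m : ℕ) (_ : 0 < m) (G : Ab U) (_ : EtPBC.IsConstructible G)
    (_ : KilledBy m G) (q : ℕ), EtPBC.IsConstructible ((Rpush j q).obj G)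

variable {k : Type u} [Field k]

/-- The local cohomology sheaves of a constructible sheaf are constructible. -/
theorem isConstructible_locCoh (FIN : StmtFin k) {X U : Scheme.{u}} (f : X ⟶ Spec (CommRingCat.of k))
    [LocallyOfFiniteType f] [QuasiCompact f] (j : U ⟶ X) [IsOpenImmersion j] (m : ℕ) (hm : 0 < m)
    (F : Ab X) (hF : EtPBC.IsConstructible F) (hFm : KilledBy m F) (q : ℕ) :
    EtPBC.IsConstructible ((EtDual.locCoh j q).obj F) := by
  have hU : EtPBC.IsConstructible ((pull j).obj F) := Groth.Agent.S0127.result j F hF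
  have hUm : KilledBy m ((pull j).obj F) := Groth.Agent.Etcore.Torsion.killedBy_pull m j F hFm
  have hR (i : ℕ) := FIN f j m hm _ hU hUm i
  have hP : EtPBC.IsConstructible ((push j).obj ((pull j).obj F)) :=
    Groth.Agent.EtpbcA.StrataGlob.isConstructible_of_iso
      ((Functor.rightDerivedZeroIsoSelf (push j)).app ((pull j).obj F)) (hR 0)
  rcases q with _ | _ | q
  · exact Groth.Agent.EtpbcA.StrataGlob.isConstructible_of_iso
      ((Groth.Agent.Sga4h.LocCohLES.locCohZeroIso j).symm.app F)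
      (Groth.Agent.EtpbcA.ConsExact.isConstructible_kernel (EtDual.unitApp j F) hF hP)
  · have hc := Groth.Agent.EtpbcA.ConsExact.isConstructible_cokernel (EtDual.unitApp j F) hF hP
    have hex := Groth.Agent.Sga4h.LocCohLES.exact₀ j F
    have hepi : Epi (Groth.Agent.Sga4h.LocCohLES.δ₀ j F) := inferInstance
    let e : cokernel (EtDual.unitApp j F) ≅ (EtDual.locCoh j 1).obj F :=
      (cokernelIsCokernel (EtDual.unitApp j F)).coconePointUniqueUpToIso hex.gIsCokernel
    exact Groth.Agent.EtpbcA.StrataGlob.isConstructible_of_iso e hc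
  · exact Groth.Agent.EtpbcA.StrataGlob.isConstructible_of_iso
      (Groth.Agent.Sga4h.LocCohLES.locCohSuccIso j F q) (hR (q + 1))

/-- finitely many constructible sheaves become finite locally constant near the generic point -/
theorem exists_flc {Z : Scheme.{u}} [IsIntegral Z] (L : ℕ → Ab Z) (hL : ∀ q, EtPBC.IsConstructible (L q)) :
    ∀ n : ℕ, ∃ O : Z.Opens, genericPoint Z ∈ O ∧
      ∀ q < n, EtCoh.IsFiniteLocallyConstant ((pull O.ι).obj (L q))
  | 0 => ⟨⊤, trivial, fun q hq => absurd hq (Nat.not_lt_zero q)⟩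
  | n + 1 => by
    obtain ⟨O, hO, h⟩ := exists_flc L hL n
    obtain ⟨O', hO', h'⟩ := Groth.Agent.Sga4h.GenULAFlc.exists_flc_open (L n) (hL n) (genericPoint Z)
      (fun y hy => (hy.antisymm (genericPoint_specializes y)).eq)
    have hle {A B : Z.Opens} (hAB : A ≤ B) (G : Ab Z)
        (hG : EtCoh.IsFiniteLocallyConstant ((pull B.ι).obj G)) :
        EtCoh.IsFiniteLocallyConstant ((pull A.ι).obj G) := by
      have hb : EtCoh.BCCont (Z.homOfLE hAB) := EtCoh.bcCont _
      exact Groth.Agent.EtpbcA.PullFLC.isFLC_of_iso ((Groth.Agent.EtpbcA.PullFLC.pullComp _ _).app G ≪≫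
        (Groth.Agent.EtpbcA.PullFLC.pullCongr (Z.homOfLE_ι hAB)).app G)
        (Groth.Agent.EtpbcA.PullFLC.isFLC_pull (Z.homOfLE hAB) _ hG)
    refine ⟨O ⊓ O', ⟨hO, hO'⟩, fun q hq => ?_⟩
    rcases Nat.lt_succ_iff_lt_or_eq.1 hq with hq | rfl
    · exact hle inf_le_left _ (h q hq)
    · exact hle inf_le_right _ h'

theorem depthAtGE_of_isZero {X : Scheme.{u}} {G : Ab X} (hG : IsZero G) (x : X) (n : ℕ) :
    EtDepth.DepthAtGE X G x n := fun _ _ _ _ _ _ =>
  DepthPush.depthGE_of_isZero _ ((EtCoh.pull _).map_isZero hG) n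

/-- **Spreading out.**  `u = v` with `dim cl(v) = d` and étale depth of `F` at `v` at least `a`: every open
neighbourhood of `v` contains a closed point `z ∈ cl(v)` where the depth is at least `a + 2d`. -/
theorem spread [IsAlgClosed k] [CharZero k] (SP : FlcPurity.StmtSP k) (FIN : StmtFin k)
    {X : Scheme.{u}} (f : X ⟶ Spec (CommRingCat.of k)) [LocallyOfFiniteType f] [QuasiCompact f]
    (F : Ab X) (hF : EtPBC.IsConstructible F) (m : ℕ) (hm : 0 < m) (hFm : KilledBy m F) (v : X) (d a : ℕ)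
    (hd : topologicalKrullDim (closure ({v} : Set X)) = (d : WithBot ℕ∞))
    (h : EtDepth.DepthAtGE X F v a) (W : X.Opens) (hW : v ∈ W) :
    ∃ z : X, z ∈ W ∧ v ⤳ z ∧ IsClosed ({z} : Set X) ∧ EtDepth.DepthAtGE X F z (a + 2 * d) := by
  have hNX : IsLocallyNoetherian X := LocallyOfFiniteType.isLocallyNoetherian f
  obtain ⟨Z, i, hi, hZ, hη, hr⟩ := Groth.Agent.CycA.ClosurePt.exists_closure_subscheme v
  have hfZ : LocallyOfFiniteType (i ≫ f) := inferInstance
  -- the open complement
  let U : X.Opens := ⟨(closure ({v} : Set X))ᶜ, isClosed_closure.isOpen_compl⟩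
  have hrU : Set.range U.ι = (closure ({v} : Set X))ᶜ := Scheme.Opens.range_ι U
  have hv : ∀ x : X, x ∉ Set.range U.ι ↔ v ⤳ x := by
    intro x
    rw [hrU, Set.mem_compl_iff, not_not, specializes_iff_mem_closure]
  let N : ℕ → Ab X := fun q => (EtDual.locCoh U.ι q).obj F
  have hN (q : ℕ) : EtPBC.IsConstructible (N q) := isConstructible_locCoh FIN f U.ι m hm F hF hFm q
  let L : ℕ → Ab Z := fun q => (pull i).obj (N q)
  have hL (q : ℕ) : EtPBC.IsConstructible (L q) := Groth.Agent.S0127.result i (N q) (hN q)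
  have hsupp (q : ℕ) : EtPBC.supp (N q) ⊆ Set.range i := by
    intro x hx
    rw [hr]
    by_contra hxc
    have h0 : IsZero ((pull U.ι).obj (N q)) := Groth.Agent.Sga4B.ClosedSupp.isZero_pull_locCoh U.ι q F
    have h1 : x ∈ Set.range U.ι := by rw [hrU]; exact hxc
    obtain ⟨w, rfl⟩ := h1
    rw [Groth.Agent.EtpbcA.Artin.isZero_iff, Groth.Agent.EtpbcA.Artin.supp_pull] at h0
    exact (Set.eq_empty_iff_forall_notMem.1 h0) w hx
  have hiso (q : ℕ) : IsIso ((pullPushAdj i).unit.app (N q)) :=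
    Groth.Agent.EtpbcA.SuppClosed.isIso_unit_of_supp i (N q) (hsupp q)
  -- the good open subset of `Z`
  obtain ⟨O₁, hO₁, hflc⟩ := exists_flc L hL (a + 2 * d)
  have hlfp : LocallyOfFinitePresentation (i ≫ f) := inferInstance
  have hdense := (i ≫ f).dense_smoothLocus_of_perfectField
  have hηs : genericPoint Z ∈ (i ≫ f).smoothLocus := by
    obtain ⟨x, hx⟩ := hdense.nonempty
    exact (genericPoint_specializes x).mem_open (i ≫ f).smoothLocus.2 hx
  let O : Z.Opens := O₁ ⊓ (i ≫ f).smoothLocus ⊓ i ⁻¹ᵁ W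
  have hO : genericPoint Z ∈ O := ⟨⟨hO₁, hηs⟩, by
    change i (genericPoint Z) ∈ W
    rw [hη]
    exact hW⟩
  have hjac : JacobsonSpace Z := LocallyOfFiniteType.jacobsonSpace (i ≫ f)
  obtain ⟨z, hzO, hzc⟩ := nonempty_inter_closedPoints (Z := (O : Set Z)) ⟨_, hO⟩ O.2.isLocallyClosed
  have hzc' : IsClosed ({z} : Set Z) := hzc
  have hNZ : IsLocallyNoetherian Z := LocallyOfFiniteType.isLocallyNoetherian (i ≫ f)
  -- smoothness of `O`
  have hOs : Smooth (O.ι ≫ i ≫ f) := by
    have h1 : O ≤ (i ≫ f).smoothLocus := inf_le_left.trans inf_le_right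
    have h2 := Groth.Agent.VarietyA.SmoothLocusSch.smooth_smoothLocus_ι (i ≫ f)
    have h3 : O.ι ≫ i ≫ f = Z.homOfLE h1 ≫ (i ≫ f).smoothLocus.ι ≫ i ≫ f := by
      rw [← Category.assoc (Z.homOfLE h1), Z.homOfLE_ι]
    rw [h3]
    infer_instance
  have hflcO (q : ℕ) (hq : q < a + 2 * d) : EtCoh.IsFiniteLocallyConstant ((pull O.ι).obj (L q)) := by
    have h1 : O ≤ O₁ := inf_le_left.trans inf_le_left
    exact Groth.Agent.EtpbcA.PullFLC.isFLC_of_iso ((Groth.Agent.EtpbcA.PullFLC.pullComp _ _).app (L q) ≪≫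
      (Groth.Agent.EtpbcA.PullFLC.pullCongr (Z.homOfLE_ι h1)).app (L q))
      (Groth.Agent.EtpbcA.PullFLC.isFLC_pull (Z.homOfLE h1) _ (hflc q hq))
  let zO : O.toScheme := ⟨z, hzO⟩
  have hzO' : O.ι zO = z := rfl
  -- dimension
  have hdz : (d : WithBot ℕ∞) ≤ ringKrullDim (O.toScheme.presheaf.stalk zO) := by
    have h1 : ringKrullDim (O.toScheme.presheaf.stalk zO) = ringKrullDim (Z.presheaf.stalk z) := by
      rw [ringKrullDim_stalk_eq_coheight, ringKrullDim_stalk_eq_coheight]
      exact congrArg _ (Topology.IsOpenEmbedding.coheight_eq _ O.ι.isOpenEmbedding).symm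
    let _ : Z.Over (Spec (CommRingCat.of k)) := ⟨i ≫ f⟩
    have hft : LocallyOfFiniteType (Z ↘ (Spec (CommRingCat.of k))) := hfZ
    have h2 : ringKrullDim (Z.presheaf.stalk z) = topologicalKrullDim Z :=
      Groth.Agent.Fga.DimCut.ringKrullDim_stalk_eq k Z z hzc'
    have h3 : topologicalKrullDim Z = topologicalKrullDim (closure ({v} : Set X)) := by
      have e1 : Z ≃ₜ Set.range i := i.isEmbedding.toHomeomorph
      have e2 : Z ≃ₜ (closure ({v} : Set X)) := e1.trans (Homeomorph.setCongr hr)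
      exact IsHomeomorph.topologicalKrullDim_eq e2 e2.isHomeomorph
    rw [h1, h2, h3, hd]
  -- depth of the sheaves `L q` at `z`
  have hLd (q : ℕ) (hq : q < a + 2 * d) : EtDepth.DepthAtGE Z (L q) z (2 * d) := by
    rw [← hzO', ← DepthAt.depthAtGE_pull_iff O.ι (L q) zO]
    exact FlcPurity.depthAtGE_flc SP (O.ι ≫ i ≫ f) _ (hflcO q hq) zO d hdz
  have hLz (q : ℕ) (hq : q < a) (n : ℕ) : EtDepth.DepthAtGE Z (L q) z n := by
    rw [← hzO', ← DepthAt.depthAtGE_pull_iff O.ι (L q) zO]
    refine depthAtGE_of_isZero ?_ _ _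
    let ηO : O.toScheme := ⟨genericPoint Z, hO⟩
    refine GenDepth.isZero_of_flc ηO (fun x => ?_) _ (hflcO q (by omega)) ?_
    · exact O.ι.isEmbedding.isInducing.specializes_iff.1 (genericPoint_specializes _)
    · rw [Groth.Agent.EtpbcA.Artin.supp_pull]
      intro hmem
      have h1 : genericPoint Z ∈ EtPBC.supp (L q) := hmem
      rw [Groth.Agent.EtpbcA.Artin.supp_pull] at h1
      have h2 : i (genericPoint Z) ∈ EtPBC.supp (N q) := h1
      rw [hη] at h2
      exact GenDepth.not_mem_supp_locCoh U.ι F v hv a h q hq h2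
  -- depth of the sheaves `N q` at `i z`
  have hNd (q n : ℕ) (hn : EtDepth.DepthAtGE Z (L q) z n) : EtDepth.DepthAtGE X (N q) (i z) n := by
    have := hiso q
    refine DepthAt.DepthAtGE.of_iso (asIso ((pullPushAdj i).unit.app (N q))).symm ?_
    refine DepthPush.depthAtGE_push i (L q) (i z) n fun w hw => ?_
    have : w = z := i.isEmbedding.injective hw
    rw [this]
    exact hn
  have hvz : v ⤳ i z := by
    rw [specializes_iff_mem_closure, ← hr]
    exact ⟨z, rfl⟩
  have hclz : IsClosed ({i z} : Set X) := by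
    have h1 := i.isClosedEmbedding.isClosedMap _ hzc'
    rwa [Set.image_singleton] at h1
  refine ⟨i z, hzO.2, hvz, hclz, ?_⟩
  -- the complement of the point
  let V : X.Opens := ⟨({i z} : Set X)ᶜ, hclz.isOpen_compl⟩
  have hrV : Set.range V.ι = ({i z} : Set X)ᶜ := Scheme.Opens.range_ι V
  have hUV : U ≤ V := by
    intro x hx
    change x ≠ i z
    rintro rfl
    exact hx (specializes_iff_mem_closure.1 hvz)
  have hmem : ∀ y : X, y ∉ Set.range V.ι.base ↔ y = i z := by
    intro y
    rw [hrV, Set.mem_compl_iff, not_not, Set.mem_singleton_iff]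
  have hconv (G : Ab X) (n : ℕ) (hG : EtDepth.DepthAtGE X G (i z) n) : EtDepth.DepthGE V.ι G n := by
    rw [Groth.Agent.Sga2lef.H87.DepthLocal.depthGE_iff]
    intro y hy
    rw [(hmem y).1 hy]
    exact hG
  refine (Groth.Agent.Sga2lef.H87.DepthLocal.depthGE_iff V.ι F (a + 2 * d)).1 ?_ (i z) ((hmem _).2 rfl)
  refine DepthComp.depthGE_of_comp U.ι V.ι (X.homOfLE hUV) (X.homOfLE_ι hUV) F _ fun p q hpq => ?_
  by_cases hq : q < a
  · exact hconv (N q) (p + 1) (hNd q _ (hLz q hq (p + 1))) p (Nat.lt_succ_self p)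
  · exact hconv (N q) (2 * d) (hNd q _ (hLd q (by omega))) p (by omega)

end Groth.Agent.Sga2lef.H134.Spread
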