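import Groth.Agent.Sga2lef.H107.DepthSES
import Groth.Agent.Sga1.UlaSL
import Groth.Agent.Sga4B.PureComp
import Groth.Agent.Etrest.StrictLocBC
import Groth.Agent.Sga4B.LocCohLocal

/-!
# Étale depth at a point on one strict localization, and weakly étale base change

* `depthAtGE_iff_of_isStrictLoc`: `EtDepth.DepthAtGE X F x n` may be tested on one strict localization;
* `depthAtGE_pull_iff`: for `g : X' ⟶ X` weakly étale, the depth of `g^* F` at `x'` is the depth of `F` at `g x'`.
-/

set_option autoImplicit false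
universe u
open CategoryTheory CategoryTheory.Limits AlgebraicGeometry Opposite IsLocalRing

namespace Groth.Agent.Sga2lef.H134.DepthAt

open Groth.Agent.Etrest.StrictLoc Groth.Agent.Sga1.UlaSL

/-- The range of the punctured spectrum. -/
theorem mem_range_punct (C : Type u) [CommRing C] [IsLocalRing C] (y : Spec (CommRingCat.of C)) :
    y ∈ Set.range (FEt.puncturedSpec C).ι ↔ y ≠ closedPoint C := by
  rw [Scheme.Opens.range_ι]
  rfl

/-- A local homomorphism which is injective on spectra pulls the punctured spectrum back to the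
punctured spectrum. -/
theorem range_punct_eq {C C' : Type u} [CommRing C] [IsLocalRing C] [CommRing C'] [IsLocalRing C']
    (g : C →+* C') [IsLocalHom g] (hg : Function.Injective (spm g)) :
    Set.range (FEt.puncturedSpec C').ι = (spm g) ⁻¹' (Set.range (FEt.puncturedSpec C).ι) := by
  ext y
  rw [Set.mem_preimage, mem_range_punct, mem_range_punct, not_iff_not]
  constructor
  · intro hy
    rw [hy]
    exact closedPoint_map g
  · intro hy
    apply hg
    exact hy.trans (closedPoint_map g).symm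

/-- Transport of the depth along an isomorphism of strict localizations. -/
theorem depthGE_of_bijective {X : Scheme.{u}} {F : EtCoh.Ab X} {C C' : Type u} [CommRing C] [IsLocalRing C]
    [CommRing C'] [IsLocalRing C'] {τ : Spec (CommRingCat.of C) ⟶ X}
    {τ' : Spec (CommRingCat.of C') ⟶ X} (g : C →+* C') [IsLocalHom g] (hg : Function.Bijective g)
    (w : spm g ≫ τ = τ') (n : ℕ)
    (h : EtDepth.DepthGE (FEt.puncturedSpec C).ι ((EtCoh.pull τ).obj F) n) :
    EtDepth.DepthGE (FEt.puncturedSpec C').ι ((EtCoh.pull τ').obj F) n := by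
  have := isIso_spm g hg
  have hr := range_punct_eq g (spm g).homeomorph.injective
  have h1 : EtDepth.DepthGE (FEt.puncturedSpec C').ι ((EtCoh.pull (spm g)).obj ((EtCoh.pull τ).obj F)) n := by
    intro p hp
    refine IsZero.of_iso ?_
      ((Groth.Agent.Sga4B.LocCohLocal.locCohPullIsoOfRange (FEt.puncturedSpec C).ι (spm g)
        (FEt.puncturedSpec C').ι hr p).symm.app ((EtCoh.pull τ).obj F))
    exact (EtCoh.pull (spm g)).map_isZero (h p hp)
  refine Groth.Agent.Sga2lef.H107.DepthSES.DepthGE.of_iso ?_ h1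
  exact (Groth.Agent.EtpbcA.PullFLC.pullComp (spm g) τ ≪≫ Groth.Agent.EtpbcA.PullFLC.pullCongr w).app F

/-- The depth at a point can be tested on one strict localization. -/
theorem depthAtGE_iff_of_isStrictLoc {X : Scheme.{u}} {F : EtCoh.Ab X} {C : Type u} [CommRing C]
    [IsLocalRing C] {τ : Spec (CommRingCat.of C) ⟶ X} (hτ : IsStrictLoc τ) (x : X)
    (hx : τ (closedPoint C) = x) (n : ℕ) :
    EtDepth.DepthAtGE X F x n ↔
      EtDepth.DepthGE (FEt.puncturedSpec C).ι ((EtCoh.pull τ).obj F) n := by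
  constructor
  · intro h
    obtain ⟨_, _, _, h2⟩ := exists_specOf hτ x hx
    rw [← h2]
    exact h C
  · intro h R _ _ _ _ _
    have hR := isStrictLoc_specOf X x R
    obtain ⟨g, hg1, hg2, hg3⟩ := hτ.exists_equiv hR
      (hx.trans (Groth.Agent.Etrest.VCBaseChange.specOf_closedPoint X x R).symm)
    exact depthGE_of_bijective g hg2 hg3 n h

/-- Depth and weakly étale base change. -/
theorem depthAtGE_pull_iff {X X' : Scheme.{u}} (g : X' ⟶ X) [WeaklyEtale g] (F : EtCoh.Ab X) (x' : X')
    (n : ℕ) : EtDepth.DepthAtGE X' ((EtCoh.pull g).obj F) x' n ↔ EtDepth.DepthAtGE X F (g x') n := by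
  obtain ⟨C, _, _, τ, hτ, hx⟩ := exists_isStrictLoc X' x'
  have h2 : (τ ≫ g) (closedPoint C) = g x' := by rw [Scheme.Hom.comp_apply, hx]
  rw [depthAtGE_iff_of_isStrictLoc hτ x' hx, depthAtGE_iff_of_isStrictLoc (hτ.comp g) (g x') h2]
  exact Groth.Agent.Sga2lef.H107.DepthSES.depthGE_congr
    ((Groth.Agent.EtpbcA.PullFLC.pullComp τ g).app F) n

/-- Invariance of the depth under isomorphisms of sheaves. -/
theorem DepthAtGE.of_iso {X : Scheme.{u}} {F G : EtCoh.Ab X} (e : F ≅ G) {x : X} {n : ℕ}
    (h : EtDepth.DepthAtGE X F x n) : EtDepth.DepthAtGE X G x n := fun R _ _ _ _ _ =>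
  Groth.Agent.Sga2lef.H107.DepthSES.DepthGE.of_iso ((EtCoh.pull (Hens2.specOf X x R)).mapIso e) (h R)

/-- Monotonicity. -/
theorem DepthAtGE.mono {X : Scheme.{u}} {F : EtCoh.Ab X} {x : X} {m n : ℕ}
    (h : EtDepth.DepthAtGE X F x n) (hmn : m ≤ n) : EtDepth.DepthAtGE X F x m := fun R _ _ _ _ _ p hp =>
  h R p (lt_of_lt_of_le hp hmn)

end Groth.Agent.Sga2lef.H134.DepthAt
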