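import Groth.Agent.Sga2lef.H134.DepthAt
import Groth.Agent.Sga2lef.H87.DepthLocal
import Groth.Agent.Sga2lef.H107.DepthSES
import Groth.Agent.Sga2lef.H338.HpullDev
import Groth.Agent.EtpbcA.OverSite2
import Groth.Agent.CalgB.RegDer

/-!
# Étale depth of finite locally constant sheaves on smooth schemes over a field of characteristic zero
-/

set_option autoImplicit false
universe u
open CategoryTheory CategoryTheory.Limits AlgebraicGeometry Opposite TopologicalSpace

namespace Groth.Agent.Sga2lef.H134.FlcPurity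

open EtCoh Groth.Agent.Etrest.HpullConst

/-- Semi-purity for `ℤ/p`, `X` smooth over `k`. -/
def StmtSP (k : Type u) [Field k] : Prop :=
  ∀ {X U : Scheme.{u}} (f : X ⟶ Spec (CommRingCat.of k)) [Smooth f] (j : U ⟶ X) [IsOpenImmersion j] (c : ℕ)
    (_ : ∀ x : X, x ∉ Set.range j → (c : WithBot ℕ∞) ≤ ringKrullDim (X.presheaf.stalk x)) (n : ℕ)
    (_ : (n : k) ≠ 0) (q : ℕ) (_ : q < 2 * c), IsZero ((EtDual.locCoh j q).obj (const X (ZMod n)))

/-- all finite constant coefficients -/
theorem isZero_const {k : Type u} [Field k] [CharZero k] (SP : StmtSP k)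
    {X U : Scheme.{u}} (f : X ⟶ Spec (CommRingCat.of k)) [Smooth f] (j : U ⟶ X) [IsOpenImmersion j] (c : ℕ)
    (hY : ∀ x : X, x ∉ Set.range j → (c : WithBot ℕ∞) ≤ ringKrullDim (X.presheaf.stalk x))
    (M : Type) [AddCommGroup M] [Finite M] (q : ℕ) (hq : q < 2 * c) :
    IsZero ((EtDual.locCoh j q).obj (const X M)) := by
  have hl : PreservesFiniteLimits (constU X) := by
    unfold constU constantSheaf
    infer_instance
  have hr : PreservesFiniteColimits (constU X) := by
    have : PreservesColimitsOfSize.{0, 0} (constU X) :=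
      ((constantSheafAdj X.smallEtaleTopology AddCommGrpCat.{u + 1}
        (EtCore.topIsTerminal X))).leftAdjoint_preservesColimits
    exact PreservesColimitsOfSize.preservesFiniteColimits _
  have hadd : (EtDual.locCoh j q).Additive := Groth.Agent.Etrest.RDer1.rightDerived_additive _ _
  exact Groth.Agent.Sga2lef.H338.HpullDev.finite_induction
    (fun M => IsZero ((EtDual.locCoh j q).obj ((constU X).obj M)))
    (fun e he => he.of_iso ((EtDual.locCoh j q).mapIso ((constU X).mapIso e)).symm)
    (fun M hM => (EtDual.locCoh j q).map_isZero ((constU X).map_isZero hM))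
    (fun S hS h1 h3 => Groth.Agent.Etrest.RDer1.isZero_X₂ (EtDual.secSupp j)
      (hS.map_of_exact (constU X)) q h1 h3)
    (fun p hp => SP f j c hY p (Nat.cast_ne_zero.2 hp.ne_zero) q hq)
    (Nat.card (ULift.{u + 1} M)) (ULift.{u + 1} M) le_rfl

theorem ringKrullDim_stalk_le {X : Scheme.{u}} {z y : X} (h : z ⤳ y) :
    ringKrullDim (X.presheaf.stalk z) ≤ ringKrullDim (X.presheaf.stalk y) := by
  rw [ringKrullDim_stalk_eq_coheight, ringKrullDim_stalk_eq_coheight]
  have hle : y ≤ z := h
  exact_mod_cast Order.coheight_anti hle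

theorem depthAtGE_const {k : Type u} [Field k] [CharZero k] (SP : StmtSP k) {X : Scheme.{u}}
    (f : X ⟶ Spec (CommRingCat.of k)) [Smooth f] (M : Type) [AddCommGroup M] [Finite M] (y : X) (c : ℕ)
    (hy : (c : WithBot ℕ∞) ≤ ringKrullDim (X.presheaf.stalk y)) :
    EtDepth.DepthAtGE X (const X M) y (2 * c) := by
  have hN : IsLocallyNoetherian X := LocallyOfFiniteType.isLocallyNoetherian f
  let U : X.Opens := ⟨(closure ({y} : Set X))ᶜ, isClosed_closure.isOpen_compl⟩
  have hr : Set.range U.ι = (closure ({y} : Set X))ᶜ := Scheme.Opens.range_ι U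
  refine (Groth.Agent.Sga2lef.H87.DepthLocal.depthGE_iff U.ι _ _).1 ?_ y ?_
  · intro q hq
    refine isZero_const SP f U.ι c (fun x hx => ?_) M q hq
    rw [hr, Set.mem_compl_iff, not_not] at hx
    have h1 : y ⤳ x := specializes_iff_mem_closure.2 hx
    exact hy.trans (ringKrullDim_stalk_le h1)
  · rw [hr, Set.mem_compl_iff, not_not]
    exact subset_closure rfl

/-- **Étale depth of finite locally constant sheaves.** -/
theorem depthAtGE_flc {k : Type u} [Field k] [CharZero k] (SP : StmtSP k) {X : Scheme.{u}}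
    (f : X ⟶ Spec (CommRingCat.of k)) [Smooth f] (L : Ab X) (hL : EtCoh.IsFiniteLocallyConstant L)
    (y : X) (c : ℕ) (hy : (c : WithBot ℕ∞) ≤ ringKrullDim (X.presheaf.stalk y)) :
    EtDepth.DepthAtGE X L y (2 * c) := by
  have hN : IsLocallyNoetherian X := LocallyOfFiniteType.isLocallyNoetherian f
  rw [Groth.Agent.EtpbcA.OverSite2.isFLC_iff_pull] at hL
  obtain ⟨ι, U, hU, h⟩ := hL
  obtain ⟨a, t, ht⟩ := hU y
  obtain ⟨M, _, _, ⟨e⟩⟩ := h a
  let g : (U a).left ⟶ X := Groth.Agent.EtpbcA.OverSite.str (U a)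
  have hg : g t = y := ht
  have hge : Etale g := inferInstance
  have hsm : Smooth (g ≫ f) := inferInstance
  rw [← hg, ← DepthAt.depthAtGE_pull_iff g L t]
  refine DepthAt.DepthAtGE.of_iso e.symm ?_
  refine depthAtGE_const SP (g ≫ f) M t c (hy.trans ?_)
  rw [← hg]
  have hN' : IsLocallyNoetherian (U a).left := LocallyOfFiniteType.isLocallyNoetherian g
  let := (g.stalkMap t).hom.toAlgebra
  have : Module.Flat (X.presheaf.stalk (g t)) ((U a).left.presheaf.stalk t) := Flat.stalkMap g t
  have : IsLocalHom (algebraMap (X.presheaf.stalk (g t)) ((U a).left.presheaf.stalk t)) :=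
    inferInstanceAs (IsLocalHom (g.stalkMap t).hom)
  exact Groth.Agent.CalgB.RegDer.ringKrullDim_le_of_flat

end Groth.Agent.Sga2lef.H134.FlcPurity
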